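import Mathlib.Algebra.Category.Ring.Constructions
import Mathlib.LinearAlgebra.Charpoly.BaseChange
import Mathlib.RingTheory.Norm.Defs
import Mathlib.RingTheory.IsTensorProduct
import Mathlib.RingTheory.TensorProduct.Free

/-!
# The norm commutes with base change
-/

set_option autoImplicit false

universe u

open CategoryTheory TensorProduct

namespace Groth.Agent.H58NM.Alg

theorem norm_of_isPushout (A A' B B' : Type u) [CommRing A] [CommRing A'] [CommRing B] [CommRing B']
    [Algebra A A'] [Algebra A B] [Algebra A' B'] [Algebra B B'] [Algebra A B']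
    [IsScalarTower A A' B'] [IsScalarTower A B B'] [h : Algebra.IsPushout A A' B B']
    [Module.Finite A B] [Module.Free A B] :
    Module.Finite A' B' ∧ Module.Free A' B' ∧
      ∀ x : B, Algebra.norm A' (algebraMap B B' x) = algebraMap A A' (Algebra.norm A x) := by
  let e := Algebra.IsPushout.equiv A A' B B'
  refine ⟨Module.Finite.equiv e.toLinearEquiv, Module.Free.of_equiv e.toLinearEquiv, fun x => ?_⟩
  rw [Algebra.norm_apply, Algebra.norm_apply, ← LinearMap.det_baseChange,
    ← LinearMap.det_conj ((Algebra.lmul A B x).baseChange A') e.toLinearEquiv]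
  congr 1
  ext y
  have hx : algebraMap B B' x = e (1 ⊗ₜ x) := by
    rw [Algebra.IsPushout.equiv_tmul, map_one, one_mul]
  have key : ∀ t : A' ⊗[A] B, e ((Algebra.lmul A B x).baseChange A' t) = algebraMap B B' x * e t := by
    intro t
    rw [hx, ← map_mul]
    congr 1
    induction t using TensorProduct.induction_on with
    | zero => simp
    | tmul a b => simp
    | add s t hs ht => rw [map_add, mul_add, hs, ht]
  simpa using (key (e.symm y)).symm

/-- The same statement for a pushout square of rings. -/
theorem norm_of_isPushout_cat {A B A' B' : CommRingCat.{u}} {φ : A ⟶ B} {a : A ⟶ A'} {ψ : A' ⟶ B'}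
    {b : B ⟶ B'} (h : IsPushout a φ ψ b)
    (hf : letI := φ.hom.toAlgebra; Module.Finite A B ∧ Module.Free A B) :
    (letI := ψ.hom.toAlgebra; Module.Finite A' B' ∧ Module.Free A' B') ∧
      ∀ x : B, (letI := ψ.hom.toAlgebra; Algebra.norm A' (b x)) =
        a (letI := φ.hom.toAlgebra; Algebra.norm A x) := by
  letI := φ.hom.toAlgebra
  letI := a.hom.toAlgebra
  letI := ψ.hom.toAlgebra
  letI := b.hom.toAlgebra
  letI := (a ≫ ψ).hom.toAlgebra
  haveI : IsScalarTower A A' B' := IsScalarTower.of_algebraMap_eq' rfl
  haveI : IsScalarTower A B B' := IsScalarTower.of_algebraMap_eq' (congrArg CommRingCat.Hom.hom h.w)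
  haveI : Algebra.IsPushout A A' B B' := CommRingCat.isPushout_iff_isPushout.mp h
  haveI := hf.1
  haveI := hf.2
  obtain ⟨h1, h2, h3⟩ := norm_of_isPushout A A' B B'
  exact ⟨⟨h1, h2⟩, h3⟩

end Groth.Agent.H58NM.Alg
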