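import Groth.Agent.H58NM.Alg
import Groth.Agent.H2.FreeLocal
import Groth.Agent.Lib.RedPts.Gm
import Groth.Prelude.Def_CGrpSh3
import Mathlib.AlgebraicGeometry.Morphisms.Affine

/-!
# The norm map of a finite locally free morphism on the big fppf site
-/

set_option autoImplicit false
set_option linter.style.haveILetI false

universe u

open CategoryTheory CategoryTheory.Limits AlgebraicGeometry TopologicalSpace Opposite

noncomputable section

namespace Groth.Agent.H58NM.Norm

open Groth.Agent.H2.FreeLocal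

set_option backward.isDefEq.respectTransparency.types false

variable {X X' : Scheme.{u}} (f : X' ⟶ X)

/-- The functions on `T ×_X X'`. -/
abbrev Top (T : Over X) : CommRingCat.{u} := Γ(((Over.pullback f).obj T).left, ⊤)

/-- The pullback of functions to `T ×_X X'`. -/
abbrev str (T : Over X) : Γ(T.left, ⊤) ⟶ Top f T := (pullback.fst T.hom f).appTop

/-- The norm of functions on `T ×_X X'`. -/
def normFn (T : Over X) : Top f T →* Γ(T.left, ⊤) :=
  letI := (str f T).hom.toAlgebra
  Algebra.norm Γ(T.left, ⊤)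

/-- Pullback of functions along a map of test objects. -/
abbrev push {Z T : Over X} (h : Z ⟶ T) : Top f T ⟶ Top f Z :=
  ((Over.pullback f).map h).left.appTop

theorem push_comp {W Z T : Over X} (k : W ⟶ Z) (h : Z ⟶ T) :
    push f (k ≫ h) = push f h ≫ push f k := by
  rw [push, push, push, Functor.map_comp, Over.comp_left, Scheme.Hom.comp_appTop]

/-- Affine test objects with free functions. -/
def FreeAff (T : Over X) : Prop := IsAffine T.left ∧ FreeFin (str f T)

theorem bc [IsFinite f] {Z T : Over X} (h : Z ⟶ T) (hT : FreeAff f T) (hZ : IsAffine Z.left) :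
    FreeAff f Z ∧ ∀ s, normFn f Z (push f h s) = h.left.appTop (normFn f T s) := by
  haveI := hT.1
  haveI : IsAffine (pullback T.hom f) := by
    haveI : IsAffineHom (pullback.fst T.hom f) := MorphismProperty.pullback_fst _ _ inferInstance
    exact isAffine_of_isAffineHom (pullback.fst T.hom f)
  have h1 : IsPullback ((Over.pullback f).map h).left (pullback.fst Z.hom f)
      (pullback.fst T.hom f) h.left := by
    refine IsPullback.of_right ?_ ?_ (IsPullback.of_hasPullback T.hom f).flip
    · rw [Over.w h]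
      convert (IsPullback.of_hasPullback Z.hom f).flip using 1
      all_goals first | rfl | exact pullback.lift_snd (f := T.hom) (g := f) _ _ _
    · exact pullback.lift_fst (f := T.hom) (g := f) _ _ _
  haveI : IsAffine ((Over.pullback f).obj T).left := ‹IsAffine (pullback T.hom f)›
  obtain ⟨h2, h3⟩ := Alg.norm_of_isPushout_cat (isPushout_appTop_of_isPullback h1).flip hT.2
  exact ⟨⟨hZ, h2⟩, h3⟩

/-- An open of a test object. -/
abbrev res (T : Over X) (V : T.left.Opens) : Over X := Over.mk (V.ι ≫ T.hom)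

/-- The inclusion of an open of a test object. -/
abbrev inc (T : Over X) (V : T.left.Opens) : res T V ⟶ T := Over.homMk V.ι rfl

/-- The inclusion between opens of a test object. -/
abbrev incl (T : Over X) {U V : T.left.Opens} (h : U ≤ V) : res T U ⟶ res T V :=
  Over.homMk (T.left.homOfLE h) (by simp)

theorem incl_inc (T : Over X) {U V : T.left.Opens} (h : U ≤ V) :
    incl T h ≫ inc T V = inc T U := by
  ext1; simp

theorem existsUnique_norm [IsFinite f] [Flat f] [LocallyOfFinitePresentation f] (T : Over X)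
    (s : Top f T) :
    ∃! n : Γ(T.left, ⊤), ∀ (W : Over X) (h : W ⟶ T), FreeAff f W →
      h.left.appTop n = normFn f W (push f h s) := by
  choose V hV hmem hfree using fun t : T.left => exists_affine_free f T.hom t
  have hFA : ∀ t, FreeAff f (res T (V t)) := fun t => ⟨hV t, hfree t⟩
  let O : T.left → T.left.Opens := fun t => (V t).ι ''ᵁ ⊤
  let sf : ∀ t, Γ(T.left, O t) := fun t => normFn f (res T (V t)) (push f (inc T (V t)) s)
  have hcov : (⊤ : T.left.Opens) ≤ ⨆ t, O t := fun t _ =>
    Opens.mem_iSup.2 ⟨t, ⟨t, hmem t⟩, trivial, rfl⟩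
  -- restrictions to smaller affine opens
  have hres : ∀ (t : T.left) (U : T.left.Opens) (hU : IsAffineOpen U) (hle : U ≤ V t),
      T.left.presheaf.map (homOfLE ((U.ι_image_top.le.trans hle).trans (V t).ι_image_top.ge :
        U.ι ''ᵁ ⊤ ≤ O t)).op (sf t) = normFn f (res T U) (push f (inc T U) s) := by
    intro t U hU hle
    have h := (bc f (incl T hle) (hFA t) hU).2 (push f (inc T (V t)) s)
    rw [← ConcreteCategory.comp_apply, ← push_comp, incl_inc] at h
    refine Eq.trans ?_ h.symm
    exact congr($((Scheme.homOfLE_appTop hle).symm) (sf t))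
  obtain ⟨n, hn, huniq⟩ := T.left.sheaf.existsUnique_gluing' O ⊤ (fun t => homOfLE le_top) hcov sf
    (fun i j => by
      choose U hU hxU hle using fun x : ↥(O i ⊓ O j) =>
        exists_isAffineOpen_mem_and_subset (U := O i ⊓ O j) (x := x.1) x.2
      refine T.left.sheaf.eq_of_locally_eq' (fun x => (U x).ι ''ᵁ ⊤) (O i ⊓ O j)
        (fun x => homOfLE ((U x).ι_image_top.le.trans (hle x)))
        (fun x hx => Opens.mem_iSup.2 ⟨⟨x, hx⟩, ⟨x, hxU ⟨x, hx⟩⟩, trivial, rfl⟩) _ _ fun x => ?_
      have hi : U x ≤ V i := ((hle x).trans inf_le_left : U x ≤ O i).trans (V i).ι_image_top.le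
      have hj : U x ≤ V j := ((hle x).trans inf_le_right : U x ≤ O j).trans (V j).ι_image_top.le
      change T.left.presheaf.map _ (T.left.presheaf.map _ (sf i)) =
        T.left.presheaf.map _ (T.left.presheaf.map _ (sf j))
      rw [← ConcreteCategory.comp_apply, ← ConcreteCategory.comp_apply, ← Functor.map_comp,
        ← Functor.map_comp]
      exact (hres i (U x) (hU x) hi).trans (hres j (U x) (hU x) hj).symm)
  have hloc : ∀ t, (inc T (V t)).left.appTop n = sf t := fun t => by
    refine (congr($(Scheme.Opens.ι_appTop (V t)) n)).trans ?_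
    exact hn t
  refine ⟨n, fun W h hW => ?_, fun n' hn' => huniq n' fun t => ?_⟩
  · haveI := hW.1
    choose U hU hxU hle using fun x : W.left =>
      exists_isAffineOpen_mem_and_subset (U := h.left ⁻¹ᵁ V (h.left x)) (x := x) (hmem _)
    refine W.left.sheaf.eq_of_locally_eq' (fun x => (U x).ι ''ᵁ ⊤) ⊤ (fun x => homOfLE le_top)
      (fun x _ => Opens.mem_iSup.2 ⟨x, ⟨x, hxU x⟩, trivial, rfl⟩) _ _ fun x => ?_
    suffices (inc W (U x)).left.appTop (h.left.appTop n) =
        (inc W (U x)).left.appTop (normFn f W (push f h s)) by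
      exact ((congr($(Scheme.Opens.ι_appTop (U x)) (h.left.appTop n))).symm.trans this).trans
        (congr($(Scheme.Opens.ι_appTop (U x)) _))
    let k : res W (U x) ⟶ res T (V (h.left x)) :=
      Over.homMk (h.left.resLE _ _ (hle x)) (by simp [Over.w h])
    have hk : k ≫ inc T (V (h.left x)) = inc W (U x) ≫ h := by ext1; simp [k]
    rw [← ConcreteCategory.comp_apply, ← Scheme.Hom.comp_appTop, ← Over.comp_left, ← hk,
      Over.comp_left, Scheme.Hom.comp_appTop, ConcreteCategory.comp_apply, hloc,
      ← (bc f k (hFA _) (hU x)).2, ← (bc f (inc W (U x)) hW (hU x)).2,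
      ← ConcreteCategory.comp_apply, ← push_comp, ← ConcreteCategory.comp_apply, ← push_comp, hk]
  · have h := hn' _ (inc T (V t)) (hFA t)
    exact (congr($(Scheme.Opens.ι_appTop (V t)) n')).symm.trans h

variable [IsFinite f] [Flat f] [LocallyOfFinitePresentation f]

/-- The norm of functions, glued. -/
def nrm (T : Over X) (s : Top f T) : Γ(T.left, ⊤) := (existsUnique_norm f T s).choose

theorem nrm_spec {T : Over X} (s : Top f T) {W : Over X} (h : W ⟶ T) (hW : FreeAff f W) :
    h.left.appTop (nrm f T s) = normFn f W (push f h s) :=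
  (existsUnique_norm f T s).choose_spec.1 W h hW

theorem nrm_eq {T : Over X} (s : Top f T) (n : Γ(T.left, ⊤))
    (hn : ∀ (W : Over X) (h : W ⟶ T), FreeAff f W → h.left.appTop n = normFn f W (push f h s)) :
    nrm f T s = n :=
  ((existsUnique_norm f T s).choose_spec.2 n hn).symm

theorem nrm_nat {Z T : Over X} (g : Z ⟶ T) (s : Top f T) :
    g.left.appTop (nrm f T s) = nrm f Z (push f g s) := by
  refine (nrm_eq f _ _ fun W h hW => ?_).symm
  rw [← ConcreteCategory.comp_apply, ← Scheme.Hom.comp_appTop, ← Over.comp_left,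
    nrm_spec f s (h ≫ g) hW, push_comp, ConcreteCategory.comp_apply]

theorem nrm_mul (T : Over X) (s t : Top f T) : nrm f T (s * t) = nrm f T s * nrm f T t :=
  nrm_eq f _ _ fun W h hW => by rw [map_mul, nrm_spec f s h hW, nrm_spec f t h hW, map_mul, map_mul]

theorem nrm_one (T : Over X) : nrm f T 1 = 1 :=
  nrm_eq f _ _ fun W h _ => by rw [map_one, map_one, map_one]

theorem isUnit_nrm (T : Over X) (x : (Over.pullback f).obj T ⟶ Red.Gm X') :
    IsUnit (nrm f T (Red.gmFn x)) := by
  obtain ⟨b, hb⟩ := isUnit_iff_exists_inv.mp (Lib.RedPts.Gm.isUnit_gmFn x)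
  exact isUnit_iff_exists_inv.mpr ⟨nrm f T b, by rw [← nrm_mul, hb, nrm_one]⟩

/-- The norm of a point of `𝔾_m`. -/
def normPoint (T : Over X) (x : (Over.pullback f).obj T ⟶ Red.Gm X') : T ⟶ Red.Gm X :=
  (Lib.RedPts.Gm.exists_gmFn_eq (S := X) (X := T) (a := nrm f T (Red.gmFn x))
    (isUnit_nrm f T x)).choose

theorem gmFn_normPoint (T : Over X) (x : (Over.pullback f).obj T ⟶ Red.Gm X') :
    Red.gmFn (normPoint f T x) = nrm f T (Red.gmFn x) :=
  (Lib.RedPts.Gm.exists_gmFn_eq (isUnit_nrm f T x)).choose_spec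

/-- The components of the norm map. -/
def appHom (T : (Over X)ᵒᵖ) : (CGrpSh3.pushGm Scheme.fppfPrecoverage f).obj.obj T ⟶
    (CGrpSh2.Gm Scheme.fppfPrecoverage X).obj.obj T :=
  AddCommGrpCat.ofHom
    (X := (CGrpSh3.pushGm Scheme.fppfPrecoverage f).obj.obj T)
    (Y := (CGrpSh2.Gm Scheme.fppfPrecoverage X).obj.obj T)
    (AddMonoidHom.mk'
      (fun x => (⟨Additive.ofMul (normPoint f T.unop
        (Additive.toMul (ULift.down (α := Additive ((Over.pullback f).obj T.unop ⟶ Red.Gm X')) x)))⟩ :
          ULift.{u + 1} (Additive (T.unop ⟶ Red.Gm X))))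
      fun x y => ULift.ext _ _ (congrArg Additive.ofMul (Lib.RedPts.Gm.gmFn_injective (by
        refine (gmFn_normPoint f _ _).trans (Eq.trans ?_ (Lib.RedPts.Gm.gmFn_mul _ _).symm)
        refine Eq.trans ?_ (congrArg₂ (· * ·) (gmFn_normPoint f _ _) (gmFn_normPoint f _ _)).symm
        refine (congrArg (nrm f T.unop) ?_).trans (nrm_mul f _ _ _)
        exact Lib.RedPts.Gm.gmFn_mul _ _))))

/-- The norm map of sheaves. -/
def N : CGrpSh3.pushGm Scheme.fppfPrecoverage f ⟶ CGrpSh2.Gm Scheme.fppfPrecoverage X :=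
  ⟨{ app := appHom f
     naturality := fun T Z g => AddCommGrpCat.ext fun x => ULift.ext _ _
      (congrArg Additive.ofMul (Lib.RedPts.Gm.gmFn_injective (by
        refine (gmFn_normPoint f _ _).trans (Eq.trans ?_ (Lib.RedPts.Gm.gmFn_comp _ _).symm)
        refine Eq.trans ?_ (congrArg g.unop.left.appTop (gmFn_normPoint f _ _)).symm
        refine Eq.trans ?_ (nrm_nat f g.unop _).symm
        exact congrArg (nrm f Z.unop) (Lib.RedPts.Gm.gmFn_comp _ _)))) }⟩

theorem isNormMap : CGrpSh3.IsNormMap Scheme.fppfPrecoverage f (N f) := by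
  intro T _ inst _ _ hT t'
  have he : inst = (str f T).hom.toAlgebra := Algebra.algebra_ext _ _ hT
  subst he
  show Red.gmFn (normPoint f T t') = _
  rw [gmFn_normPoint]
  have h := nrm_spec f (Red.gmFn t') (𝟙 T) ⟨inferInstance, ‹_›, ‹_›⟩
  have e : ((Over.pullback f).map (𝟙 T)).left = 𝟙 _ := by rw [CategoryTheory.Functor.map_id, Over.id_left]
  have hid : push f (𝟙 T) (Red.gmFn t') = Red.gmFn t' := by
    show ((Over.pullback f).map (𝟙 T)).left.appTop _ = _
    rw [e]; rfl
  rw [hid] at h
  exact h

end Groth.Agent.H58NM.Norm
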